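import Cfsg.Agent.H421.Outer
import Cfsg.Agent.H812.SuzSeven_m3
import Cfsg.Agent.CTwoTab.Fi23Fin
import Cfsg.Agent.S2466
import Cfsg.Agent.LieClassical.FieldTransfer
import Cfsg.Agent.H341.ThreeList_m3
import Cfsg.Agent.Prune
set_option linter.all false
prune_inst 0x7f00000000000000000000000000000000000000000000000000000000000000000000000000000000000000000000000000000000000000000000000000000000000000000000000000000000000000003fffffffffffffffffffffffffffbeffbdffffffff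
open scoped Cfsg.Agent.FastGrp

/-!
# Some elements in simple groups with prime divisors at most 13 (helper421)

`alt_35`, `suz_21`, `fi22_22` : elements of orders 35, 21, 22; `psl5_frob` : a nonabelian subgroup of order 55 in
`PSL₅(3)`.
-/

set_option autoImplicit false

namespace Cfsg.Agent.H421.Rows

open Cfsg Cfsg.Agent.H421.Act Matrix

universe u

theorem orderOf_equiv {S T : Type*} [Group S] [Group T] (e : S ≃* T) {n : ℕ} (h : ∃ g : T, orderOf g = n) :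
    ∃ g : S, orderOf g = n := by
  obtain ⟨g, hg⟩ := h
  exact ⟨e.symm g, by rw [MulEquiv.orderOf_eq, hg]⟩

theorem alt_35 {n : ℕ} (hn : 12 ≤ n) {S : Type u} [Group S] (e : S ≃* alternatingGroup (Fin n)) :
    ∃ g : S, orderOf g = 5 * 7 := by
  apply orderOf_equiv e
  have h := (Cfsg.Agent.S2466.result n 5 7 (by norm_num) (by norm_num) (by norm_num) (by norm_num) (by norm_num)
    (by omega) (by omega)).2 (by omega)
  exact h

theorem suz_21 {S : Type u} [Group S] [Finite S] (h : Spor.IsoSuz S) : ∃ g : S, orderOf g = 3 * 7 := by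
  have h7 : Fact (Nat.Prime 7) := ⟨by norm_num⟩
  obtain ⟨B⟩ : Nonempty (Sylow 7 S) := inferInstance
  obtain ⟨⟨e⟩, -⟩ := Cfsg.Agent.H812.SuzSeven.main h B
  obtain ⟨a, ha⟩ : ∃ a : alternatingGroup (Fin 4), orderOf a = 3 := by
    have h3 : Fact (Nat.Prime 3) := ⟨by norm_num⟩
    exact exists_prime_orderOf_dvd_card' (G := alternatingGroup (Fin 4)) 3 (by
      rw [nat_card_alternatingGroup]; simp [Nat.factorial])
  have h1 : orderOf ((Multiplicative.ofAdd (1 : ZMod 7), a) : Multiplicative (ZMod 7) × alternatingGroup (Fin 4)) =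
      3 * 7 := by
    rw [Prod.orderOf, ha, orderOf_ofAdd_eq_addOrderOf, ZMod.addOrderOf_one]
    rfl
  refine ⟨((e.symm (Multiplicative.ofAdd (1 : ZMod 7), a) : Subgroup.centralizer ((B : Subgroup S) : Set S)) : S), ?_⟩
  rw [Subgroup.orderOf_coe, MulEquiv.orderOf_eq, h1]

theorem fi22_22 {S : Type u} [Group S] [Finite S] (h : Spor.IsoFi22 S) : ∃ g : S, orderOf g = 11 * 2 := by
  obtain ⟨e⟩ := h
  have hfin : Finite Spor.Fi22 := Finite.of_equiv S e.toEquiv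
  apply orderOf_equiv e
  obtain ⟨π, hπ, hk, hkc⟩ := Cfsg.Agent.CTwoTab.Fi23.exists_pi22
  have h2 : Fact (Nat.Prime 2) := ⟨by norm_num⟩
  have h11 : Fact (Nat.Prime 11) := ⟨by norm_num⟩
  obtain ⟨z, hz⟩ := exists_prime_orderOf_dvd_card' (G := π.ker) 2 (by rw [hk])
  have hcU : 11 ∣ Nat.card Cfsg.Agent.CTwoTab.Fi23.U := by
    rw [Cfsg.Agent.CTwoTab.Fi23.card_U]; norm_num
  have hfU : Finite Cfsg.Agent.CTwoTab.Fi23.U := Finite.of_surjective π hπ
  obtain ⟨u, hu⟩ := exists_prime_orderOf_dvd_card' (G := Cfsg.Agent.CTwoTab.Fi23.U) 11 hcU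
  obtain ⟨v, rfl⟩ := hπ u
  have h1 : 11 ∣ orderOf v := hu ▸ orderOf_map_dvd π v
  have h3 : Commute v (z : Subgroup.centralizer ({Cfsg.Agent.CTwoTab.Fi23.a22} : Set Spor.Fi22)) :=
    Subgroup.mem_center_iff.1 (hkc z.2) v
  obtain ⟨y, hy⟩ := exists_mul_order h3 (by norm_num : Nat.Prime 11) (by norm_num : Nat.Prime 2) (by norm_num) h1
    (by rw [Subgroup.orderOf_coe, hz])
  exact ⟨y, by rw [Subgroup.orderOf_coe, hy]⟩

/-! ### `PSL₅(3)` -/

/-- matrix of order 11 -/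
def Y5 : Matrix (Fin 5) (Fin 5) (ZMod 3) :=
  !![0, 0, 0, 0, 1; 1, 0, 0, 0, 1; 0, 1, 0, 0, 2; 0, 0, 1, 0, 1; 0, 0, 0, 1, 0]

/-- matrix of order 5 with `Z Y = Y³ Z` -/
def Z5 : Matrix (Fin 5) (Fin 5) (ZMod 3) :=
  !![1, 0, 0, 2, 0; 0, 0, 1, 1, 1; 0, 0, 1, 1, 0; 0, 1, 2, 1, 0; 0, 0, 1, 2, 0]

theorem Y5_pow : Y5 ^ 11 = 1 := by decide +kernel
theorem Z5_pow : Z5 ^ 5 = 1 := by decide +kernel
theorem ZY5 : Z5 * Y5 = Y5 ^ 3 * Z5 := by decide +kernel

theorem det_Y5 : Y5.det = 1 := by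
  have h1 : Y5.det ^ 11 = 1 := by rw [← Matrix.det_pow, Y5_pow, Matrix.det_one]
  revert h1
  generalize Y5.det = x
  revert x
  decide

theorem det_Z5 : Z5.det = 1 := by
  have h1 : Z5.det ^ 5 = 1 := by rw [← Matrix.det_pow, Z5_pow, Matrix.det_one]
  revert h1
  generalize Z5.det = x
  revert x
  decide

/-- elements of `SL₅(3)` -/
def ys : Matrix.SpecialLinearGroup (Fin 5) (ZMod 3) := ⟨Y5, det_Y5⟩
/-- elements of `SL₅(3)` -/
def zs : Matrix.SpecialLinearGroup (Fin 5) (ZMod 3) := ⟨Z5, det_Z5⟩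

theorem not_center {n : ℕ} {A : Matrix.SpecialLinearGroup (Fin n) (ZMod 3)}
    (h : ∀ r : ZMod 3, Matrix.scalar (Fin n) r ≠ A.1) :
    (QuotientGroup.mk A : Matrix.ProjectiveSpecialLinearGroup (Fin n) (ZMod 3)) ≠ 1 := by
  intro hA
  have h1 : A ∈ Subgroup.center (Matrix.SpecialLinearGroup (Fin n) (ZMod 3)) := (QuotientGroup.eq_one_iff A).1 hA
  rw [Matrix.SpecialLinearGroup.mem_center_iff] at h1
  obtain ⟨r, -, hr⟩ := h1
  exact h r hr

theorem psl5 : ∃ x z : Matrix.ProjectiveSpecialLinearGroup (Fin 5) (ZMod 3), orderOf x = 11 ∧ orderOf z = 5 ∧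
    z * x * z⁻¹ ∈ Subgroup.zpowers x ∧ z * x ≠ x * z := by
  have h11 : Fact (Nat.Prime 11) := ⟨by norm_num⟩
  have h5 : Fact (Nat.Prime 5) := ⟨by norm_num⟩
  have hy : ys ^ 11 = 1 := Subtype.ext (by
    rw [Matrix.SpecialLinearGroup.coe_pow]; exact Y5_pow)
  have hz : zs ^ 5 = 1 := Subtype.ext (by
    rw [Matrix.SpecialLinearGroup.coe_pow]; exact Z5_pow)
  have hzy : zs * ys = ys ^ 3 * zs := Subtype.ext (by
    rw [Matrix.SpecialLinearGroup.coe_mul, Matrix.SpecialLinearGroup.coe_mul, Matrix.SpecialLinearGroup.coe_pow]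
    exact ZY5)
  have hyo : orderOf (QuotientGroup.mk ys : Matrix.ProjectiveSpecialLinearGroup (Fin 5) (ZMod 3)) = 11 := by
    apply orderOf_eq_prime
    · rw [← QuotientGroup.mk_pow, hy]; rfl
    · apply not_center
      change ∀ r : ZMod 3, Matrix.scalar (Fin 5) r ≠ Y5
      decide +kernel
  have hzo : orderOf (QuotientGroup.mk zs : Matrix.ProjectiveSpecialLinearGroup (Fin 5) (ZMod 3)) = 5 := by
    apply orderOf_eq_prime
    · rw [← QuotientGroup.mk_pow, hz]; rfl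
    · apply not_center
      change ∀ r : ZMod 3, Matrix.scalar (Fin 5) r ≠ Z5
      decide +kernel
  have h1 : (QuotientGroup.mk zs : Matrix.ProjectiveSpecialLinearGroup (Fin 5) (ZMod 3)) * QuotientGroup.mk ys *
      (QuotientGroup.mk zs)⁻¹ = (QuotientGroup.mk ys) ^ 3 := by
    rw [mul_inv_eq_iff_eq_mul, ← QuotientGroup.mk_mul, hzy, QuotientGroup.mk_mul, QuotientGroup.mk_pow]
  refine ⟨QuotientGroup.mk ys, QuotientGroup.mk zs, hyo, hzo, ?_, ?_⟩
  · rw [h1]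
    exact Subgroup.pow_mem _ (Subgroup.mem_zpowers _) 3
  · intro h
    rw [h, mul_inv_cancel_right] at h1
    have h2 : (QuotientGroup.mk ys : Matrix.ProjectiveSpecialLinearGroup (Fin 5) (ZMod 3)) ^ 2 = 1 := by
      have h3 : (QuotientGroup.mk ys : Matrix.ProjectiveSpecialLinearGroup (Fin 5) (ZMod 3)) ^ 3 =
        QuotientGroup.mk ys * (QuotientGroup.mk ys) ^ 2 := by rw [pow_succ']
      rw [h3] at h1
      exact (mul_eq_left.1 h1.symm)
    have h3 := orderOf_dvd_of_pow_eq_one h2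
    rw [hyo] at h3
    norm_num at h3

theorem frob_equiv {S T : Type*} [Group S] [Group T] (e : S ≃* T) {a b : ℕ}
    (h : ∃ x z : T, orderOf x = a ∧ orderOf z = b ∧ z * x * z⁻¹ ∈ Subgroup.zpowers x ∧ z * x ≠ x * z) :
    ∃ x z : S, orderOf x = a ∧ orderOf z = b ∧ z * x * z⁻¹ ∈ Subgroup.zpowers x ∧ z * x ≠ x * z := by
  obtain ⟨x, z, hx, hz, ⟨k, hk⟩, hn⟩ := h
  refine ⟨e.symm x, e.symm z, by rw [MulEquiv.orderOf_eq, hx], by rw [MulEquiv.orderOf_eq, hz], ⟨k, ?_⟩, ?_⟩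
  · simp only at hk ⊢
    rw [← map_zpow, hk, map_mul, map_mul, map_inv]
  · intro h
    apply hn
    rw [← map_mul, ← map_mul] at h
    exact e.symm.injective h

theorem psl5_frob {S : Type u} [Group S] (h : Cfsg.Agent.OrdDiv.Real (.psl 5 3) S) :
    ∃ x z : S, orderOf x = 11 ∧ orderOf z = 5 ∧ z * x * z⁻¹ ∈ Subgroup.zpowers x ∧ z * x ≠ x * z := by
  obtain ⟨F, iF, iF', hF, ⟨e⟩⟩ := h
  let e2 : Matrix.ProjectiveSpecialLinearGroup (Fin 5) (ZMod 3) ≃* Matrix.ProjectiveSpecialLinearGroup (Fin 5) F :=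
    Cfsg.Agent.LieClassical.FieldTransfer.pslCongr (FiniteField.ringEquivOfCardEq (K := ZMod 3) (K' := F)
      (by rw [hF, ZMod.card]))
  exact frob_equiv (e.trans e2.symm) psl5

end Cfsg.Agent.H421.Rows
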