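import Mathlib
import Cfsg.Agent.FastGrp
import Cfsg.Agent.Prune
set_option linter.all false
prune_inst 0x7f00000000000000000000000000000000000000000000000000000000000000000000000000000000000000000000000000000000000000000000000000000000000000000000000000000000000000003fffffffffffffffffffffffffffbeffbdffffffff
open scoped Cfsg.Agent.FastGrp

/-!
# Chief factors below a solvable normal subgroup, Frobenius groups acting on modules (helper421)

* `orderOf_lift` : elements of a quotient of a finite group lift to elements of the same order;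
* `exists_mul_order` : commuting elements of orders divisible by different primes `p`, `q` give an element of
  order `p q`;
* `frob_trivial` : `A ⋊ ⟨z⟩` Frobenius, acting on an abelian group of order prime to `|A|` so that `z` has no fixed
  vectors: `A` acts trivially;
* `exists_top` : a solvable normal subgroup `K ≠ 1` of `G` gives a nonzero `F_t`-module for `G ⧸ K`, `t ∣ |K|`, where
  the elements of prime order `r ≠ t` have no fixed vectors if `G` has no element of order `r t`.
-/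

set_option autoImplicit false

namespace Cfsg.Agent.H421.Act

universe u

/-- elements of quotients lift to elements of the same order -/
theorem orderOf_lift {G X : Type*} [Group G] [Finite G] [Group X] (φ : G →* X) (hφ : Function.Surjective φ) (x : X) :
    ∃ g : G, orderOf g = orderOf x ∧ ∃ n : ℕ, φ g = x ^ n := by
  obtain ⟨g, rfl⟩ := hφ x
  have h1 : orderOf (φ g) ∣ orderOf g := orderOf_map_dvd φ g
  refine ⟨g ^ (orderOf g / orderOf (φ g)), ?_, _, map_pow φ g _⟩
  exact orderOf_pow_orderOf_div (orderOf_pos g).ne' h1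

/-- a power of prime order -/
theorem exists_pow_prime {G : Type*} [Group G] [Finite G] (g : G) {p : ℕ} (h : p ∣ orderOf g) :
    ∃ n : ℕ, orderOf (g ^ n) = p :=
  ⟨_, orderOf_pow_orderOf_div (orderOf_pos g).ne' h⟩

theorem exists_mul_order {G : Type*} [Group G] [Finite G] {x y : G} (h : Commute x y) {p q : ℕ} (hp : p.Prime)
    (hq : q.Prime) (hpq : p ≠ q) (hx : p ∣ orderOf x) (hy : q ∣ orderOf y) : ∃ g : G, orderOf g = p * q := by
  obtain ⟨m, hm⟩ := exists_pow_prime x hx
  obtain ⟨n, hn⟩ := exists_pow_prime y hy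
  refine ⟨x ^ m * y ^ n, ?_⟩
  rw [(h.pow_pow m n).orderOf_mul_eq_mul_orderOf_of_coprime (by rw [hm, hn]; exact (Nat.coprime_primes hp hq).2 hpq),
    hm, hn]

/-- **Frobenius groups.** -/
theorem frob_trivial {X V : Type*} [Group X] [AddCommGroup V] (ρ : X →* AddMonoid.End V) (A : Subgroup X) [Finite A]
    (z : X) (p : ℕ) (hp : 0 < p) (hz : z ^ p = 1) (hzA : ∀ a ∈ A, z * a * z⁻¹ ∈ A)
    (hfix : ∀ i, 0 < i → i < p → ∀ a ∈ A, z ^ i * a = a * z ^ i → a = 1) (hV : ∀ v, ρ z v = v → v = 0)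
    (hcop : ∀ v : V, Nat.card A • v = 0 → v = 0) : ∀ a ∈ A, ∀ v, ρ a v = v := by
  classical
  have := Fintype.ofFinite A
  intro b hb v
  set w : V := ∑ a : A, ρ (a : X) v with hw
  -- `z ^ i` normalises `A`
  have hzi : ∀ i : ℕ, ∀ a ∈ A, z ^ i * a * (z ^ i)⁻¹ ∈ A := by
    intro i
    induction i with
    | zero => intro a ha; simpa using ha
    | succ i ih =>
      intro a ha
      have h1 := hzA _ (ih a ha)
      have h2 : z ^ (i + 1) * a * (z ^ (i + 1))⁻¹ = z * (z ^ i * a * (z ^ i)⁻¹) * z⁻¹ := by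
        rw [pow_succ']; group
      rwa [h2]
  have hzp : ∀ i : ℕ, i ≤ p → ∀ a ∈ A, (z ^ i)⁻¹ * a * z ^ i ∈ A := by
    intro i hi a ha
    have h1 : (z ^ i)⁻¹ = z ^ (p - i) := by
      rw [inv_eq_iff_mul_eq_one, ← pow_add, Nat.add_sub_cancel' hi, hz]
    have h2 := hzi (p - i) a ha
    rwa [← h1, inv_inv] at h2
  -- the sum over a coset `z ^ i A`
  have hcoset : ∀ i, 0 < i → i < p → ∑ a : A, ρ (z ^ i * (a : X)) v = ∑ a : A, ρ ((a : X) * z ^ i * (a : X)⁻¹) v := by
    intro i hi0 hi
    let f : A → A := fun a => ⟨(z ^ i)⁻¹ * a * z ^ i * (a : X)⁻¹, A.mul_mem (hzp i hi.le a a.2) (A.inv_mem a.2)⟩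
    have hf : Function.Injective f := by
      intro a a' haa
      have h1 : (z ^ i)⁻¹ * (a : X) * z ^ i * (a : X)⁻¹ = (z ^ i)⁻¹ * (a' : X) * z ^ i * (a' : X)⁻¹ :=
        congrArg Subtype.val haa
      have h2 : z ^ i * ((a' : X)⁻¹ * a) = (a' : X)⁻¹ * a * z ^ i := by
        have h3 : (a : X) * z ^ i * (a : X)⁻¹ = (a' : X) * z ^ i * (a' : X)⁻¹ := by
          have := congrArg (fun u => z ^ i * u) h1
          simpa [mul_assoc] using this
        have h4 := congrArg (fun u => (a' : X)⁻¹ * u * a) h3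
        simp only [mul_assoc, inv_mul_cancel_left, inv_mul_cancel, mul_one] at h4
        rw [mul_assoc]
        exact h4.symm
      have h5 := hfix i hi0 hi _ (A.mul_mem (A.inv_mem a'.2) a.2) h2
      exact Subtype.ext (inv_mul_eq_one.1 h5).symm
    have hb : Function.Bijective f := Finite.injective_iff_bijective.1 hf
    rw [← hb.sum_comp fun a : A => ρ (z ^ i * (a : X)) v]
    refine Finset.sum_congr rfl fun a _ => ?_
    have : z ^ i * ((f a : A) : X) = (a : X) * z ^ i * (a : X)⁻¹ := by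
      change z ^ i * ((z ^ i)⁻¹ * a * z ^ i * (a : X)⁻¹) = _
      group
    rw [this]
  -- orbit sums of `z`
  have hsum : ∀ u : V, ∑ i ∈ Finset.range p, ρ (z ^ i) u = 0 := by
    intro u
    apply hV
    rw [map_sum]
    have h1 : ∀ i, ρ z (ρ (z ^ i) u) = ρ (z ^ (i + 1)) u := by
      intro i
      rw [pow_succ', map_mul]; rfl
    simp only [h1]
    have h2 := Finset.sum_range_succ (fun i => ρ (z ^ i) u) p
    have h3 := Finset.sum_range_succ' (fun i => ρ (z ^ i) u) p
    rw [h2, hz, pow_zero] at h3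
    exact (add_right_cancel h3).symm
  have htot : ∑ i ∈ Finset.range p, ∑ a : A, ρ (z ^ i * (a : X)) v = 0 := by
    rw [← hsum w]
    refine Finset.sum_congr rfl fun i _ => ?_
    rw [hw, map_sum]
    refine Finset.sum_congr rfl fun a _ => ?_
    rw [map_mul]; rfl
  obtain ⟨q, rfl⟩ : ∃ q, p = q + 1 := ⟨p - 1, by omega⟩
  rw [Finset.sum_range_succ'] at htot
  have h1 : ∀ i ∈ Finset.range q, ∑ a : A, ρ (z ^ (i + 1) * (a : X)) v =
      ∑ a : A, ρ ((a : X) * z ^ (i + 1) * (a : X)⁻¹) v := fun i hi =>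
    hcoset (i + 1) (Nat.succ_pos i) (by have := Finset.mem_range.1 hi; omega)
  rw [Finset.sum_congr rfl h1, Finset.sum_comm] at htot
  have h2 : ∀ a : A, ∑ i ∈ Finset.range q, ρ ((a : X) * z ^ (i + 1) * (a : X)⁻¹) v = -v := by
    intro a
    have h3 := hsum (ρ (a : X)⁻¹ v)
    rw [Finset.sum_range_succ', pow_zero, map_one] at h3
    have h4 : ∑ i ∈ Finset.range q, ρ ((a : X) * z ^ (i + 1) * (a : X)⁻¹) v =
        ρ (a : X) (∑ i ∈ Finset.range q, ρ (z ^ (i + 1)) (ρ (a : X)⁻¹ v)) := by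
      rw [map_sum]
      refine Finset.sum_congr rfl fun i _ => ?_
      rw [map_mul, map_mul]; rfl
    rw [h4, eq_neg_of_add_eq_zero_left h3, map_neg]
    have h5 : ρ (a : X) (ρ (a : X)⁻¹ v) = ρ ((a : X) * (a : X)⁻¹) v := by rw [map_mul]; rfl
    have h6 : (1 : AddMonoid.End V) (ρ (a : X)⁻¹ v) = ρ (a : X)⁻¹ v := rfl
    rw [h6, h5, mul_inv_cancel, map_one]
    rfl
  rw [Finset.sum_congr rfl fun a _ => h2 a, Finset.sum_const, Finset.card_univ] at htot
  simp only [pow_zero, one_mul] at htot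
  rw [← hw, ← Nat.card_eq_fintype_card] at htot
  have h7 : w = Nat.card A • v := by
    rw [smul_neg] at htot
    exact (neg_add_eq_zero.1 htot).symm
  have h8 : ρ b w = w := by
    rw [hw, map_sum]
    have h9 : ∀ a : A, ρ b (ρ (a : X) v) = ρ (((Equiv.mulLeft (⟨b, hb⟩ : A)) a : A) : X) v := by
      intro a
      change _ = ρ (b * (a : X)) v
      rw [map_mul]; rfl
    rw [Finset.sum_congr rfl fun a _ => h9 a]
    exact Equiv.sum_comp (Equiv.mulLeft (⟨b, hb⟩ : A)) fun a : A => ρ (a : X) v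
  rw [← sub_eq_zero]
  apply hcop
  rw [smul_sub, ← map_nsmul, ← h7, h8, sub_self]

/-- automorphisms as additive endomorphisms -/
def toEnd (V : Type*) [CommGroup V] : MulAut V →* AddMonoid.End (Additive V) where
  toFun f := MonoidHom.toAdditive f.toMonoidHom
  map_one' := rfl
  map_mul' _ _ := rfl

/-- a solvable normal subgroup `K ≠ 1` has a maximal `G`-invariant proper subgroup, with elementary abelian
quotient -/
theorem exists_max {G : Type*} [Group G] [Finite G] (K : Subgroup G) [K.Normal] (hK : K ≠ ⊥)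
    (hs : Group.IsSolvable K) :
    ∃ (K1 : Subgroup G) (t : ℕ), K1.Normal ∧ K1 < K ∧ t.Prime ∧ t ∣ Nat.card K ∧ (∀ x ∈ K, x ^ t ∈ K1) ∧
      ∀ x ∈ K, ∀ y ∈ K, x * y * x⁻¹ * y⁻¹ ∈ K1 := by
  classical
  obtain ⟨K1, ⟨hn, hlt⟩, hmax⟩ := Set.Finite.exists_maximal (s := {L : Subgroup G | L.Normal ∧ L < K})
    (Set.toFinite _) ⟨⊥, inferInstance, bot_lt_iff_ne_bot.2 hK⟩
  have := hn
  have hcase : ∀ L : Subgroup G, L.Normal → K1 ≤ L → L ≤ K → L = K1 ∨ L = K := by
    intro L hL h1 h2
    rcases eq_or_lt_of_le h2 with h3 | h3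
    · exact Or.inr h3
    · exact Or.inl (le_antisymm (hmax ⟨hL, h3⟩ h1) h1)
  -- commutators
  have hcomm : ∀ x ∈ K, ∀ y ∈ K, x * y * x⁻¹ * y⁻¹ ∈ K1 := by
    have h1 : ⁅K, K⁆ ⊔ K1 = K1 ∨ ⁅K, K⁆ ⊔ K1 = K :=
      hcase _ inferInstance le_sup_right (sup_le (Subgroup.commutator_le_left K K) hlt.le)
    rcases h1 with h1 | h1
    · intro x hx y hy
      have h2 : ⁅K, K⁆ ≤ K1 := by rw [← h1]; exact le_sup_left
      have h3 := Subgroup.commutator_mem_commutator hx hy
      rw [commutatorElement_def] at h3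
      exact h2 h3
    · exfalso
      -- the image of `K` in `G ⧸ K1` is perfect and solvable
      let f := QuotientGroup.mk' K1
      have h2 : ⁅K.map f, K.map f⁆ = K.map f := by
        rw [← Subgroup.map_commutator]
        have h3 : (⁅K, K⁆ ⊔ K1).map f = ⁅K, K⁆.map f := by
          rw [Subgroup.map_sup]
          have h4 : K1.map f = ⊥ := by
            rw [Subgroup.map_eq_bot_iff, QuotientGroup.ker_mk']
          rw [h4, sup_bot_eq]
        rw [← h3, h1]
      have h5 : Group.IsSolvable (K.map f) := by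
        have h6 : Function.Surjective (f.subgroupMap K) := f.subgroupMap_surjective K
        exact Group.isSolvable_of_surjective h6
      have h7 : ∀ n, (derivedSeries (K.map f) n).map (K.map f).subtype = K.map f := by
        intro n
        induction n with
        | zero => rw [derivedSeries_zero, ← MonoidHom.range_eq_map, Subgroup.range_subtype]
        | succ n ih =>
          rw [derivedSeries_succ, Subgroup.map_commutator, ih, h2]
      obtain ⟨n, hn'⟩ := h5
      have h8 := h7 n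
      rw [hn', Subgroup.map_bot] at h8
      have h9 : K ≤ K1 := by
        rw [eq_comm, Subgroup.map_eq_bot_iff, QuotientGroup.ker_mk'] at h8
        exact h8
      exact absurd h9 (not_le_of_gt hlt)
  -- exponent
  have hidx : K1.relIndex K ≠ 1 := by
    intro h
    exact absurd (Subgroup.relIndex_eq_one.1 h) (not_le_of_gt hlt)
  obtain ⟨t, ht, hdt⟩ := Nat.exists_prime_and_dvd hidx
  have hdK : t ∣ Nat.card K := hdt.trans (Subgroup.relIndex_dvd_card K1 K)
  have hfact : Fact t.Prime := ⟨ht⟩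
  let f := QuotientGroup.mk' K1
  have hab : ∀ a ∈ K.map f, ∀ b ∈ K.map f, a * b = b * a := by
    rintro _ ⟨x, hx, rfl⟩ _ ⟨y, hy, rfl⟩
    have h1 : f (x * y * x⁻¹ * y⁻¹) = 1 := (QuotientGroup.eq_one_iff _).2 (hcomm x hx y hy)
    rw [map_mul, map_mul, map_mul, map_inv, map_inv, mul_inv_eq_one, mul_inv_eq_iff_eq_mul] at h1
    exact h1
  let T : Subgroup G :=
    { carrier := {x | x ∈ K ∧ x ^ t ∈ K1}
      one_mem' := ⟨K.one_mem, by rw [one_pow]; exact K1.one_mem⟩
      mul_mem' := by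
        rintro x y ⟨hx, hx'⟩ ⟨hy, hy'⟩
        refine ⟨K.mul_mem hx hy, ?_⟩
        rw [← QuotientGroup.eq_one_iff] at hx' hy' ⊢
        have h1 : Commute (f x) (f y) := hab _ ⟨x, hx, rfl⟩ _ ⟨y, hy, rfl⟩
        have h2 := h1.mul_pow t
        have h3 : (((x * y) ^ t : G) : G ⧸ K1) = (f x * f y) ^ t := by
          change f ((x * y) ^ t) = _
          rw [map_pow, map_mul]
        rw [h3, h2, ← map_pow, ← map_pow]
        change ((x ^ t : G) : G ⧸ K1) * ((y ^ t : G) : G ⧸ K1) = 1
        rw [hx', hy', one_mul]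
      inv_mem' := by
        rintro x ⟨hx, hx'⟩
        exact ⟨K.inv_mem hx, by rw [inv_pow]; exact K1.inv_mem hx'⟩ }
  have hTn : T.Normal := by
    refine ⟨fun x hx g => ⟨‹K.Normal›.conj_mem x hx.1 g, ?_⟩⟩
    rw [conj_pow]
    exact hn.conj_mem _ hx.2 g
  have hK1T : K1 ≤ T := fun x hx => ⟨hlt.le hx, K1.pow_mem hx t⟩
  have hT : T = K1 ∨ T = K := hcase T hTn hK1T (fun x hx => hx.1)
  refine ⟨K1, t, hn, hlt, ht, hdK, ?_, hcomm⟩
  rcases hT with hT | hT
  · exfalso
    have hc : t ∣ Nat.card (K.map f) := by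
      have h1 : Nat.card (K.map f) = K1.relIndex K := by
        rw [← Subgroup.relIndex_ker, QuotientGroup.ker_mk']
      rw [h1]
      exact hdt
    obtain ⟨y, hy⟩ := exists_prime_orderOf_dvd_card' t hc
    obtain ⟨x, hx, hxy⟩ := y.2
    have h1 : f x ^ t = 1 := by
      rw [hxy]
      have := pow_orderOf_eq_one y
      rw [hy] at this
      exact congrArg Subtype.val this
    have h2 : x ∈ T := by
      refine ⟨hx, ?_⟩
      rw [← QuotientGroup.eq_one_iff]
      change f (x ^ t) = 1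
      rw [map_pow, h1]
    rw [hT] at h2
    have h3 : y = 1 := by
      apply Subtype.ext
      rw [← hxy]
      exact (QuotientGroup.eq_one_iff x).2 h2
    rw [h3, orderOf_one] at hy
    exact ht.one_lt.ne hy
  · intro x hx
    rw [← hT] at hx
    exact hx.2

/-- **The top chief factor.** -/
theorem exists_top {G : Type u} [Group G] [Finite G] (K : Subgroup G) [K.Normal] (hK : K ≠ ⊥)
    (hs : Group.IsSolvable K) :
    ∃ (t : ℕ) (V : Type u) (_ : AddCommGroup V) (_ : Nontrivial V) (_ : Finite V) (ρ : G ⧸ K →* AddMonoid.End V),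
      t.Prime ∧ t ∣ Nat.card K ∧ (∀ v : V, t • v = 0) ∧
      ∀ r : ℕ, r.Prime → r ≠ t → (∀ g : G, orderOf g ≠ r * t) → ∀ x : G ⧸ K, orderOf x = r →
        ∀ v, ρ x v = v → v = 0 := by
  classical
  obtain ⟨K1, t, hn, hlt, ht, htK, hexp, hcomm⟩ := exists_max K hK hs
  let f := QuotientGroup.mk' K1
  let W : Subgroup (G ⧸ K1) := K.map f
  have hWn : W.Normal := Subgroup.Normal.map inferInstance f (QuotientGroup.mk'_surjective K1)
  have hab : ∀ a ∈ W, ∀ b ∈ W, a * b = b * a := by
    rintro _ ⟨x, hx, rfl⟩ _ ⟨y, hy, rfl⟩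
    have h1 : f (x * y * x⁻¹ * y⁻¹) = 1 := (QuotientGroup.eq_one_iff _).2 (hcomm x hx y hy)
    rw [map_mul, map_mul, map_mul, map_inv, map_inv, mul_inv_eq_one, mul_inv_eq_iff_eq_mul] at h1
    exact h1
  have hWexp : ∀ w : W, w ^ t = 1 := by
    rintro ⟨_, x, hx, rfl⟩
    apply Subtype.ext
    change f x ^ t = 1
    rw [← map_pow]
    exact (QuotientGroup.eq_one_iff _).2 (hexp x hx)
  let _ : CommGroup W := { (inferInstance : Group W) with
    mul_comm := fun a b => Subtype.ext (hab a a.2 b b.2) }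
  have hWne : W ≠ ⊥ := by
    intro h
    rw [Subgroup.map_eq_bot_iff, QuotientGroup.ker_mk'] at h
    exact absurd h (not_le_of_gt hlt)
  have hWnt : Nontrivial W := (Subgroup.nontrivial_iff_ne_bot W).2 hWne
  let c : G →* MulAut W := (MulAut.conjNormal (H := W)).comp f
  have hc : ∀ (g : G) (w : W), ((c g w : W) : G ⧸ K1) = f g * w * (f g)⁻¹ := fun g w => MulAut.conjNormal_apply _ _
  have hker : ∀ k ∈ K, c k = 1 := by
    intro k hk
    apply MulEquiv.ext
    intro w
    apply Subtype.ext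
    rw [hc, hab (f k) ⟨k, hk, rfl⟩ w w.2, mul_inv_cancel_right]
    rfl
  let ρ : G ⧸ K →* AddMonoid.End (Additive W) := (toEnd W).comp (QuotientGroup.lift K c hker)
  refine ⟨t, Additive W, inferInstance, inferInstance, inferInstance, ρ, ht, htK, fun v => ?_, ?_⟩
  · have h1 := hWexp (Additive.toMul v)
    exact h1
  · intro r hr hrt hno x hx v hv
    obtain ⟨g, rfl⟩ := QuotientGroup.mk'_surjective K x
    have h1 : c g (Additive.toMul v) = Additive.toMul v := hv
    have h2 : f g * (Additive.toMul v : W) * (f g)⁻¹ = (Additive.toMul v : W) := by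
      rw [← hc, h1]
    have h3 : Commute (f g) ((Additive.toMul v : W) : G ⧸ K1) := mul_inv_eq_iff_eq_mul.1 h2
    by_contra hne
    have hne' : (Additive.toMul v : W) ≠ 1 := hne
    have h4 : t ∣ orderOf ((Additive.toMul v : W) : G ⧸ K1) := by
      have : Fact t.Prime := ⟨ht⟩
      rw [Subgroup.orderOf_coe, orderOf_eq_prime (hWexp _) hne']
    have h5 : r ∣ orderOf (f g) := by
      rw [← hx]
      let φ : G ⧸ K1 →* G ⧸ K := QuotientGroup.map K1 K (MonoidHom.id G) hlt.le
      have h6 : φ (f g) = QuotientGroup.mk' K g := rfl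
      rw [← h6]
      exact orderOf_map_dvd φ (f g)
    obtain ⟨y, hy⟩ := exists_mul_order h3 hr ht hrt h5 h4
    obtain ⟨u, hu, -⟩ := orderOf_lift f (QuotientGroup.mk'_surjective K1) y
    exact hno u (hu.trans hy)

end Cfsg.Agent.H421.Act
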