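import Cfsg.Agent.H421.Act
import Cfsg.Agent.S0041
import Cfsg.Agent.S0033
import Cfsg.Agent.H559.FCNonsolv
import Cfsg.Agent.FastGrp
import Cfsg.Agent.Prune
set_option linter.all false
prune_inst 0x7f00000000000000000000000000000000000000000000000000000000000000000000000000000000000000000000000000000000000000000000000000000000000000000000000000000000000000003fffffffffffffffffffffffffffbeffbdffffffff
open scoped Cfsg.Agent.FastGrp

-- part: H421/Frob
section
/-!
# Frobenius sections of order `a b` and nonadjacent primes (helper421)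

* `frob_lift` : a nonabelian group of order `a b` (`a`, `b` primes) in a quotient by a group of order prime to `a`
  lifts, if there is no element of order `a b`;
* `frob_false` : `K` normal in `G`, `a ∤ |K|`, `t ∣ |K|`, `a`, `b`, `t` pairwise nonadjacent: no nonabelian subgroup
  of order `a b` in `G ⧸ K`;
* `sylow_count` : a simple count which gives nonabelian subgroups of order `a b`.
-/

set_option autoImplicit false

namespace Cfsg.Agent.H421.Act

open Subgroup Pointwise

theorem mem_zpowers_of_order {G : Type*} [Group G] [Finite G] {x y : G} {a : ℕ} (hx : orderOf x = a)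
    (hy : orderOf y = a) (h : y ∈ zpowers x) : x ∈ zpowers y := by
  have h1 : zpowers y ≤ zpowers x := zpowers_le.2 h
  have h2 : zpowers y = zpowers x := by
    apply Subgroup.eq_of_le_of_card_ge h1
    rw [Nat.card_zpowers, Nat.card_zpowers, hx, hy]
  rw [h2]
  exact mem_zpowers x

theorem frob_lift {G X : Type*} [Group G] [Finite G] [Group X] [Finite X] (φ : G →* X) (hφ : Function.Surjective φ)
    {a b : ℕ} (ha : a.Prime) (hb : b.Prime) (hab : a ≠ b) (hak : ¬ a ∣ Nat.card φ.ker)
    (hno : ∀ g : G, orderOf g ≠ a * b) {x z : X} (hx : orderOf x = a) (hz : orderOf z = b)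
    (hn : z * x * z⁻¹ ∈ zpowers x) (hne : z * x ≠ x * z) :
    ∃ x' z' : G, orderOf x' = a ∧ orderOf z' = b ∧ z' * x' * z'⁻¹ ∈ zpowers x' ∧ z' * x' ≠ x' * z' := by
  classical
  have hfa : Fact a.Prime := ⟨ha⟩
  have hfb : Fact b.Prime := ⟨hb⟩
  -- the preimage of `⟨x⟩`
  let A : Subgroup G := (zpowers x).comap φ
  have hkA : φ.ker ≤ A := by
    intro g hg
    change φ g ∈ zpowers x
    rw [MonoidHom.mem_ker.1 hg]
    exact one_mem _
  have hzx : ∀ y ∈ zpowers x, z * y * z⁻¹ ∈ zpowers x := by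
    rintro _ ⟨n, rfl⟩
    have : z * x ^ n * z⁻¹ = (z * x * z⁻¹) ^ n := by rw [conj_zpow]
    simp only
    rw [this]
    exact zpow_mem hn n
  obtain ⟨z0, hz0⟩ := hφ z
  let T : Subgroup G := normalizer (A : Set G)
  have hz0T : z0 ∈ T := by
    have h1 : ∀ g ∈ A, z0 * g * z0⁻¹ ∈ A := by
      intro g hg
      change φ (z0 * g * z0⁻¹) ∈ zpowers x
      rw [map_mul, map_mul, map_inv, hz0]
      exact hzx _ hg
    rw [mem_normalizer_iff]
    intro g
    refine ⟨h1 g, fun hg => ?_⟩
    -- finite: conjugation by `z0` is a bijection of `A`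
    let f : A → A := fun g => ⟨z0 * g * z0⁻¹, h1 g g.2⟩
    have hf : Function.Injective f := by
      intro u v huv
      have := congrArg Subtype.val huv
      exact Subtype.ext (mul_left_cancel (mul_right_cancel this))
    obtain ⟨u, hu⟩ := (Finite.injective_iff_surjective.1 hf) ⟨_, hg⟩
    have h2 : z0 * (u : G) * z0⁻¹ = z0 * g * z0⁻¹ := congrArg Subtype.val hu
    rw [← mul_left_cancel (mul_right_cancel h2)]
    exact u.2
  have hAT : A ≤ T := le_normalizer
  let A' : Subgroup T := A.subgroupOf T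
  have hA'n : A'.Normal := normal_in_normalizer
  obtain ⟨Q⟩ : Nonempty (Sylow a A') := inferInstance
  have hfr := Sylow.normalizer_sup_eq_top Q
  -- card of Q
  have hcA : Nat.card A = a * Nat.card φ.ker := by
    have h1 : Nat.card (A.map φ) = a := by
      have : A.map φ = zpowers x := Subgroup.map_comap_eq_self_of_surjective hφ _
      rw [this, Nat.card_zpowers, hx]
    have h2 : φ.ker.relIndex A = a := by rw [Subgroup.relIndex_ker, h1]
    have h3 := Subgroup.relIndex_mul_relIndex ⊥ φ.ker A bot_le hkA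
    rw [Subgroup.relIndex_bot_left, Subgroup.relIndex_bot_left, h2] at h3
    rw [← h3, mul_comm]
  have hcA' : Nat.card A' = a * Nat.card φ.ker := by
    rw [← hcA]
    exact Nat.card_congr (Subgroup.subgroupOfEquivOfLe hAT).toEquiv
  have hcQ : Nat.card Q = a := by
    rw [Sylow.card_eq_multiplicity, hcA', Nat.factorization_mul ha.ne_zero Nat.card_pos.ne', Finsupp.add_apply,
      ha.factorization_self, Nat.factorization_eq_zero_of_not_dvd hak, add_zero, pow_one]
  -- generator
  obtain ⟨q, hq⟩ : ∃ q : Q, orderOf q = a := by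
    have h1 := exists_prime_orderOf_dvd_card' (G := Q) a (by rw [hcQ])
    exact h1
  let x' : G := ((q : A') : T)
  have hx' : orderOf x' = a := by
    change orderOf (((q : A') : T) : G) = a
    rw [Subgroup.orderOf_coe, Subgroup.orderOf_coe, Subgroup.orderOf_coe, hq]
  have hQz : ∀ y : A', y ∈ (Q : Subgroup A') → ((y : T) : G) ∈ zpowers x' := by
    intro y hy
    have h1 : (⟨y, hy⟩ : Q) ∈ zpowers q := by
      have : zpowers q = ⊤ := by
        apply Subgroup.eq_top_of_card_eq
        rw [Nat.card_zpowers, hq]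
        exact hcQ.symm
      rw [this]
      exact mem_top _
    obtain ⟨n, hn⟩ := h1
    refine ⟨n, ?_⟩
    have h2 := congrArg (fun u : Q => (((u : A') : T) : G)) hn
    simpa using h2
  have hx'A : x' ∈ A := (q : A').2
  -- `φ x'`
  have hφx' : orderOf (φ x') = a := by
    have h1 : orderOf (φ x') ∣ a := hx' ▸ orderOf_map_dvd φ x'
    rcases (Nat.dvd_prime ha).1 h1 with h2 | h2
    · exfalso
      apply hak
      rw [← hx', ← Subgroup.orderOf_mk x' (MonoidHom.mem_ker.2 (orderOf_eq_one_iff.1 h2))]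
      exact orderOf_dvd_natCard _
    · exact h2
  have hxφ : x ∈ zpowers (φ x') := mem_zpowers_of_order hx hφx' hx'A
  -- the element `n` of the normalizer
  have hz0' : (⟨z0, hz0T⟩ : T) ∈ normalizer ((Q.map A'.subtype : Subgroup T) : Set T) ⊔ A' := by
    rw [hfr]; exact mem_top _
  obtain ⟨n, hnN, u, hu, hnu⟩ := Subgroup.mem_sup_of_normal_right.1 hz0'
  have hn1 : (n : G) * x' * (n : G)⁻¹ ∈ zpowers x' := by
    rw [mem_normalizer_iff] at hnN
    have h1 : ((q : A') : T) ∈ (Q : Subgroup A').map A'.subtype := ⟨q, q.2, rfl⟩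
    obtain ⟨y, hy, hyy⟩ := (hnN _).1 h1
    have h2 : ((y : T) : G) = (n : G) * x' * (n : G)⁻¹ := by
      have := congrArg Subtype.val hyy
      exact this
    rw [← h2]
    exact hQz y hy
  have hφn : φ n = z * (φ u)⁻¹ := by
    have h1 := congrArg (fun v : T => φ (v : G)) hnu
    simp only [Subgroup.coe_mul, map_mul, hz0] at h1
    rw [← h1, mul_inv_cancel_right]
  have hux : φ (u : G) ∈ zpowers x := hu
  have hcx : ∀ y ∈ zpowers x, x * y = y * x := by
    rintro _ ⟨m, rfl⟩
    exact (Commute.self_zpow x m)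
  have hncomm : (n : G) * x' ≠ x' * n := by
    intro h
    have h1 : Commute (φ n) (φ x') := by
      have := congrArg φ h
      rwa [map_mul, map_mul] at this
    have h2 : Commute (φ n) x := by
      obtain ⟨m, hm⟩ := hxφ
      rw [← hm]
      exact h1.zpow_right m
    apply hne
    have h3 : z = φ n * φ u := by rw [hφn, inv_mul_cancel_right]
    rw [h3, mul_assoc, ← hcx _ hux, ← mul_assoc, h2.eq, mul_assoc]
  -- `n ^ b` commutes with `x'`
  have hconj : ∀ m : ℕ, ∀ y ∈ zpowers x, φ n ^ m * y * (φ n ^ m)⁻¹ = z ^ m * y * (z ^ m)⁻¹ ∧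
      z ^ m * y * (z ^ m)⁻¹ ∈ zpowers x := by
    intro m
    induction m with
    | zero => intro y hy; simpa using hy
    | succ m ih =>
      intro y hy
      obtain ⟨h1, h2⟩ := ih y hy
      have h3 : z ^ (m + 1) * y * (z ^ (m + 1))⁻¹ = z * (z ^ m * y * (z ^ m)⁻¹) * z⁻¹ := by
        rw [pow_succ']; group
      refine ⟨?_, by rw [h3]; exact hzx _ h2⟩
      have h4 : φ n ^ (m + 1) * y * (φ n ^ (m + 1))⁻¹ = φ n * (φ n ^ m * y * (φ n ^ m)⁻¹) * (φ n)⁻¹ := by
        rw [pow_succ']; group
      have h5 : (φ u)⁻¹ * (z ^ m * y * (z ^ m)⁻¹) * φ u = z ^ m * y * (z ^ m)⁻¹ := by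
        obtain ⟨k, hk⟩ := hux
        obtain ⟨l, hl⟩ := h2
        simp only at hk hl
        rw [← hk, ← hl]
        have : Commute (x ^ l) (x ^ k) := Commute.zpow_zpow_self x l k
        rw [mul_assoc, this.eq, inv_mul_cancel_left]
      rw [h4, h1, h3, hφn]
      have h6 : z * (φ u)⁻¹ * (z ^ m * y * (z ^ m)⁻¹) * (z * (φ u)⁻¹)⁻¹ =
          z * ((φ u)⁻¹ * (z ^ m * y * (z ^ m)⁻¹) * φ u) * z⁻¹ := by group
      rw [h6, h5]
  have hn1' : ∀ m : ℕ, (n : G) ^ m * x' * ((n : G) ^ m)⁻¹ ∈ zpowers x' := by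
    intro m
    induction m with
    | zero => simp
    | succ m ih =>
      obtain ⟨k, hk⟩ := ih
      simp only at hk
      have h3 : (n : G) ^ (m + 1) * x' * ((n : G) ^ (m + 1))⁻¹ = n * ((n : G) ^ m * x' * ((n : G) ^ m)⁻¹) * (n : G)⁻¹ := by
        rw [pow_succ']; group
      rw [h3, ← hk, ← conj_zpow]
      exact zpow_mem hn1 k
  have hinj : ∀ y ∈ zpowers x', φ y = 1 → y = 1 := by
    rintro y hy h
    by_contra hy1
    have h1 : orderOf y = a := by
      have h2 : orderOf y ∣ a := by
        obtain ⟨k, rfl⟩ := hy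
        rw [← hx']
        exact orderOf_dvd_of_pow_eq_one (by
          simp only
          rw [← zpow_natCast, ← zpow_mul, mul_comm, zpow_mul, zpow_natCast, pow_orderOf_eq_one, one_zpow])
      exact ((Nat.dvd_prime ha).1 h2).resolve_left fun h => hy1 (orderOf_eq_one_iff.1 h)
    apply hak
    rw [← h1, ← Subgroup.orderOf_mk y (MonoidHom.mem_ker.2 h)]
    exact orderOf_dvd_natCard _
  have hnb : Commute ((n : G) ^ b) x' := by
    have h1 := hn1' b
    have h2 : (n : G) ^ b * x' * ((n : G) ^ b)⁻¹ * x'⁻¹ = 1 := by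
      apply hinj _ (mul_mem h1 (inv_mem (mem_zpowers x')))
      rw [map_mul, map_mul, map_mul, map_inv, map_inv, map_pow, (hconj b (φ x') hx'A).1, ← hz, pow_orderOf_eq_one]
      group
    exact mul_inv_eq_iff_eq_mul.1 (mul_inv_eq_one.1 h2)
  -- the `b`-part of `n`
  obtain ⟨e, m', hm', hord⟩ := Nat.exists_eq_pow_mul_and_not_dvd (orderOf_pos (n : G)).ne' b hb.ne_one
  have hcop : Nat.Coprime m' b := (Nat.Prime.coprime_iff_not_dvd hb).2 hm' |>.symm
  have hzc : ¬ Commute ((n : G) ^ m') x' := by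
    intro h
    apply hncomm
    obtain ⟨s, t, hst⟩ : ∃ s t : ℤ, s * m' + t * b = 1 := by
      have := Nat.isCoprime_iff_coprime.2 hcop
      exact this
    have h1 : (n : G) = ((n : G) ^ m') ^ s * ((n : G) ^ b) ^ t := by
      rw [← zpow_natCast, ← zpow_natCast, ← zpow_mul, ← zpow_mul, ← zpow_add, mul_comm (m' : ℤ), mul_comm (b : ℤ), hst,
        zpow_one]
    have h2 : Commute (n : G) x' := by
      rw [h1]
      exact (h.zpow_left s).mul_left (hnb.zpow_left t)
    exact h2
  have hzb : ((n : G) ^ m') ^ b = 1 := by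
    by_contra h
    have h1 : orderOf (((n : G) ^ m') ^ b) ∣ b ^ e := by
      apply orderOf_dvd_of_pow_eq_one
      have h0 : m' * (b * b ^ e) = b ^ e * m' * b := by ring
      rw [← pow_mul, ← pow_mul, h0, ← hord, pow_mul, pow_orderOf_eq_one, one_pow]
    have h2 : b ∣ orderOf (((n : G) ^ m') ^ b) := by
      obtain ⟨k, hk, hk'⟩ := (Nat.dvd_prime_pow hb).1 h1
      rcases Nat.eq_zero_or_pos k with rfl | hk0
      · exact absurd (orderOf_eq_one_iff.1 (by simpa using hk')) h
      · rw [hk']; exact dvd_pow_self b hk0.ne'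
    have h3 : Commute x' (((n : G) ^ m') ^ b) := by
      rw [← pow_mul, mul_comm, pow_mul]
      exact (hnb.pow_left m').symm
    obtain ⟨y, hy⟩ := exists_mul_order h3 ha hb hab (by rw [hx']) h2
    exact hno y hy
  refine ⟨x', (n : G) ^ m', hx', orderOf_eq_prime hzb ?_, hn1' m', fun h => hzc h⟩
  intro h
  apply hzc
  rw [h]
  exact Commute.one_left x'

/-- **Three pairwise nonadjacent primes, a Frobenius section of order `a b`.** -/
theorem frob_false {G : Type*} [Group G] [Finite G] (K : Subgroup G) [K.Normal] {a b t : ℕ} (ha : a.Prime)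
    (hb : b.Prime) (ht : t.Prime) (hab : a ≠ b) (hat : a ≠ t) (hbt : b ≠ t) (haK : ¬ a ∣ Nat.card K)
    (htK : t ∣ Nat.card K) (hno1 : ∀ g : G, orderOf g ≠ a * b) (hno2 : ∀ g : G, orderOf g ≠ a * t)
    (hno3 : ∀ g : G, orderOf g ≠ b * t) {x z : G ⧸ K} (hx : orderOf x = a) (hz : orderOf z = b)
    (hn : z * x * z⁻¹ ∈ zpowers x) (hne : z * x ≠ x * z) : False := by
  classical
  have hft : Fact t.Prime := ⟨ht⟩
  obtain ⟨P⟩ : Nonempty (Sylow t K) := inferInstance
  let PG : Subgroup G := (P : Subgroup K).map K.subtype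
  let N : Subgroup G := normalizer (PG : Set G)
  have hfr : N ⊔ K = ⊤ := Sylow.normalizer_sup_eq_top P
  let φ : N →* G ⧸ K := (QuotientGroup.mk' K).comp N.subtype
  have hφ : Function.Surjective φ := by
    intro y
    obtain ⟨g, rfl⟩ := QuotientGroup.mk'_surjective K y
    have hg : g ∈ N ⊔ K := by rw [hfr]; exact mem_top g
    obtain ⟨n, hn, k, hk, rfl⟩ := Subgroup.mem_sup_of_normal_right.1 hg
    refine ⟨⟨n, hn⟩, ?_⟩
    change QuotientGroup.mk' K n = QuotientGroup.mk' K (n * k)
    rw [map_mul]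
    have : QuotientGroup.mk' K k = 1 := (QuotientGroup.eq_one_iff k).2 hk
    rw [this, mul_one]
  have hker : ¬ a ∣ Nat.card φ.ker := by
    intro h
    apply haK
    refine h.trans ?_
    have h1 : φ.ker.map N.subtype ≤ K := by
      rintro _ ⟨n, hn, rfl⟩
      exact (QuotientGroup.eq_one_iff _).1 (MonoidHom.mem_ker.1 hn)
    have h2 : Nat.card (φ.ker.map N.subtype) = Nat.card φ.ker :=
      Subgroup.card_map_of_injective N.subtype_injective
    rw [← h2]
    exact Subgroup.card_dvd_of_le h1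
  obtain ⟨x', z', hx', hz', hn', hne'⟩ := frob_lift φ hφ ha hb hab hker
    (fun g h => hno1 g (by rw [Subgroup.orderOf_coe]; exact h)) hx hz hn hne
  -- the subgroup of order `a b`
  set X : G := (x' : G) with hX
  set Z : G := (z' : G) with hZ
  have hXo : orderOf X = a := by rw [hX, Subgroup.orderOf_coe, hx']
  have hZo : orderOf Z = b := by rw [hZ, Subgroup.orderOf_coe, hz']
  have hZX : Z * X * Z⁻¹ ∈ zpowers X := by
    obtain ⟨k, hk⟩ := hn'
    exact ⟨k, by have := congrArg Subtype.val hk; simpa using this⟩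
  have hZX' : Z * X ≠ X * Z := fun h => hne' (Subtype.ext h)
  let A : Subgroup G := zpowers X ⊔ zpowers Z
  have hnorm : zpowers Z ≤ normalizer (zpowers X : Set G) := by
    rw [zpowers_le, mem_normalizer_iff]
    have h1 : ∀ y ∈ zpowers X, Z * y * Z⁻¹ ∈ zpowers X := by
      rintro _ ⟨k, rfl⟩
      simp only
      rw [← conj_zpow]
      exact zpow_mem hZX k
    intro y
    refine ⟨h1 y, fun hy => ?_⟩
    let f : zpowers X → zpowers X := fun g => ⟨Z * g * Z⁻¹, h1 g g.2⟩
    have hf : Function.Injective f := by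
      intro u v huv
      have := congrArg Subtype.val huv
      exact Subtype.ext (mul_left_cancel (mul_right_cancel this))
    obtain ⟨u, hu⟩ := (Finite.injective_iff_surjective.1 hf) ⟨_, hy⟩
    have h2 : Z * (u : G) * Z⁻¹ = Z * y * Z⁻¹ := congrArg Subtype.val hu
    rw [← mul_left_cancel (mul_right_cancel h2)]
    exact u.2
  have hXA : X ∈ A := (le_sup_left : zpowers X ≤ zpowers X ⊔ zpowers Z) (mem_zpowers X)
  have hZA : Z ∈ A := (le_sup_right : zpowers Z ≤ zpowers X ⊔ zpowers Z) (mem_zpowers Z)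
  have hcA : Nat.card A = a * b := by
    have h1 : a * b ∣ Nat.card A := by
      apply Nat.Coprime.mul_dvd_of_dvd_of_dvd ((Nat.coprime_primes ha hb).2 hab)
      · rw [← hXo, ← Subgroup.orderOf_mk X hXA]
        exact orderOf_dvd_natCard _
      · rw [← hZo, ← Subgroup.orderOf_mk Z hZA]
        exact orderOf_dvd_natCard _
    have h2 : Nat.card A ≤ a * b := by
      have h3 : ∀ y : A, ∃ p : zpowers Z × zpowers X, (p.1 : G) * p.2 = y := by
        intro y
        have hy : (y : G) ∈ ((zpowers Z ⊔ zpowers X : Subgroup G) : Set G) := by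
          rw [sup_comm]
          exact y.2
        rw [Subgroup.coe_mul_of_left_le_normalizer_right _ _ hnorm] at hy
        obtain ⟨u, hu, v, hv, huv⟩ := Set.mem_mul.1 hy
        exact ⟨(⟨u, hu⟩, ⟨v, hv⟩), huv⟩
      choose f hf using h3
      have hinj : Function.Injective f := by
        intro u v huv
        apply Subtype.ext
        rw [← hf u, ← hf v, huv]
      have h4 := Nat.card_le_card_of_injective f hinj
      rw [Nat.card_prod, Nat.card_zpowers, Nat.card_zpowers, hXo, hZo, mul_comm] at h4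
      exact h4
    exact le_antisymm h2 (Nat.le_of_dvd Nat.card_pos h1)
  -- the centre of `P`
  let ZP : Subgroup G := (center PG).map PG.subtype
  have hPG : IsPGroup t PG := P.isPGroup'.map K.subtype
  have hPGne : Nontrivial PG := by
    rw [Subgroup.nontrivial_iff_ne_bot]
    intro h
    have h1 : Nat.card P = 1 := by
      have h2 : Nat.card PG = Nat.card P := Subgroup.card_map_of_injective K.subtype_injective
      rw [← h2, h, Subgroup.card_bot]
    rw [Sylow.card_eq_multiplicity] at h1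
    have h2 : 0 < (Nat.card K).factorization t :=
      ht.factorization_pos_of_dvd Nat.card_pos.ne' htK
    have h3 := Nat.one_lt_pow h2.ne' ht.one_lt
    omega
  have hcen : Nontrivial (center PG) := hPG.center_nontrivial
  have hZPne : ZP ≠ ⊥ := by
    intro h
    rw [Subgroup.map_eq_bot_iff_of_injective _ PG.subtype_injective] at h
    exact (Subgroup.nontrivial_iff_ne_bot _).1 hcen h
  have hZPc : IsMulCommutative ZP := by
    rw [isMulCommutative_iff]
    rintro ⟨_, u, hu, rfl⟩ ⟨_, v, hv, rfl⟩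
    apply Subtype.ext
    have := Subgroup.mem_center_iff.1 hu v
    exact (congrArg Subtype.val this).symm
  have hZPn : N ≤ normalizer (ZP : Set G) := by
    intro n hn
    have h1 : ∀ n ∈ N, ∀ y ∈ ZP, n * y * n⁻¹ ∈ ZP := by
      rintro n hn _ ⟨u, hu, rfl⟩
      have h2 : n * (u : G) * n⁻¹ ∈ PG := ((mem_normalizer_iff.1 hn) _).1 u.2
      refine ⟨⟨_, h2⟩, ?_, rfl⟩
      rw [SetLike.mem_coe, Subgroup.mem_center_iff]
      intro v
      apply Subtype.ext
      change (v : G) * (n * u * n⁻¹) = n * u * n⁻¹ * v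
      have h3 : n⁻¹ * (v : G) * n ∈ PG := by
        have := ((mem_normalizer_iff.1 (N.inv_mem hn)) (v : G)).1 v.2
        rwa [inv_inv] at this
      have h4 := congrArg Subtype.val (Subgroup.mem_center_iff.1 hu ⟨_, h3⟩)
      have h5 : n⁻¹ * (v : G) * n * u = u * (n⁻¹ * v * n) := h4
      have h6 : (v : G) * (n * u * n⁻¹) = n * (n⁻¹ * v * n * u) * n⁻¹ := by group
      rw [h6, h5]
      group
    rw [mem_normalizer_iff]
    intro y
    refine ⟨h1 n hn y, fun hy => ?_⟩
    have := h1 n⁻¹ (N.inv_mem hn) _ hy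
    have h2 : n⁻¹ * (n * y * n⁻¹) * n⁻¹⁻¹ = y := by group
    rwa [h2] at this
  have hAN : A ≤ N := sup_le (zpowers_le.2 x'.2) (zpowers_le.2 z'.2)
  have hfpf : ∀ g ∈ A, g ≠ 1 → ZP ⊓ centralizer {g} = ⊥ := by
    intro g hg hg1
    rw [eq_bot_iff]
    rintro v ⟨hv, hv'⟩
    rw [Subgroup.mem_bot]
    by_contra hv1
    have h1 : Commute g v := (Subgroup.mem_centralizer_singleton_iff.1 hv').symm
    have hgo : orderOf g ∣ a * b := by
      rw [← hcA, ← Subgroup.orderOf_mk g hg]
      exact orderOf_dvd_natCard _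
    have hvt : t ∣ orderOf v := by
      obtain ⟨u, hu, rfl⟩ := hv
      obtain ⟨k, hk⟩ := (IsPGroup.iff_orderOf.1 hPG) u
      have h2 : orderOf (PG.subtype u) = t ^ k := by
        rw [← hk]; exact Subgroup.orderOf_coe u
      rcases Nat.eq_zero_or_pos k with rfl | hk0
      · rw [pow_zero] at h2
        exact absurd (orderOf_eq_one_iff.1 h2) hv1
      · rw [h2]; exact dvd_pow_self t hk0.ne'
    have hg1' : orderOf g ≠ 1 := fun h => hg1 (orderOf_eq_one_iff.1 h)
    obtain ⟨p, hp, hpg⟩ := Nat.exists_prime_and_dvd hg1'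
    rcases hp.dvd_mul.1 (hpg.trans hgo) with h2 | h2
    · rw [(Nat.prime_dvd_prime_iff_eq hp ha).1 h2] at hpg
      obtain ⟨y, hy⟩ := exists_mul_order h1 ha ht hat hpg hvt
      exact hno2 y hy
    · rw [(Nat.prime_dvd_prime_iff_eq hp hb).1 h2] at hpg
      obtain ⟨y, hy⟩ := exists_mul_order h1 hb ht hbt hpg hvt
      exact hno3 y hy
  have hcyc := Cfsg.Agent.S0041.result A ZP hZPne (hAN.trans hZPn) hfpf (Or.inr ⟨a, b, ha, hb, hcA⟩)
  have h1 : (⟨Z, hZA⟩ : A) * ⟨X, hXA⟩ = ⟨X, hXA⟩ * ⟨Z, hZA⟩ :=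
    isMulCommutative_iff.1 hcyc.isMulCommutative _ _
  exact hZX' (congrArg Subtype.val h1)

end Cfsg.Agent.H421.Act
end

-- part: H421/Outer
section
/-!
# Isolated primes (helper421)

* `sylow_count` : `|S| = a m`, `a ∤ m`, `a` isolated: `m ≡ w (mod a)` with `w ∣ a - 1`, and nonabelian subgroups of
  order `a b` for the primes `b ∣ w`;
* `outer_isolated` : a prime `r ∤ |S|` not adjacent to the primes of the simple normal subgroup `S` of `X` does not
  divide `|X|`;
* `exists_mul_of_card` : a prime `t` dividing `|X|` but not `|S|`, and not `a ^ j - 1` for the small `j`, is adjacent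
  to `a`;
* `card_dvd_of_isolated` : `a` isolated, `a ∣ |K|`, `a ∤ |G ⧸ K|`: simple normal subgroups of `G ⧸ K` have order
  dividing 120.
-/

set_option autoImplicit false

namespace Cfsg.Agent.H421.Act

open Subgroup Pointwise

theorem sylow_count {S : Type*} [Group S] [Finite S] {a m : ℕ} (ha : a.Prime) (hm : Nat.card S = a * m)
    (ham : ¬ a ∣ m) (hiso : ∀ r : ℕ, r.Prime → r ≠ a → ∀ g : S, orderOf g ≠ a * r) :
    ∃ w : ℕ, w ∣ a - 1 ∧ m ≡ w [MOD a] ∧ ∀ b : ℕ, b.Prime → b ∣ w →
      ∃ x z : S, orderOf x = a ∧ orderOf z = b ∧ z * x * z⁻¹ ∈ zpowers x ∧ z * x ≠ x * z := by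
  classical
  have hfa : Fact a.Prime := ⟨ha⟩
  obtain ⟨P⟩ : Nonempty (Sylow a S) := inferInstance
  have hm0 : m ≠ 0 := fun h => ham (h ▸ dvd_zero a)
  have hcP : Nat.card P = a := by
    rw [Sylow.card_eq_multiplicity, hm, Nat.factorization_mul ha.ne_zero hm0, Finsupp.add_apply,
      ha.factorization_self, Nat.factorization_eq_zero_of_not_dvd ham, add_zero, pow_one]
  have hcyc : IsCyclic P := isCyclic_of_prime_card hcP
  have hPcomm : ∀ x ∈ P, ∀ y ∈ P, x * y = y * x := fun x hx y hy =>
    congrArg Subtype.val (isMulCommutative_iff.1 hcyc.isMulCommutative (⟨x, hx⟩ : P) ⟨y, hy⟩)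
  obtain ⟨q, hq⟩ : ∃ q : P, orderOf q = a := exists_prime_orderOf_dvd_card' (G := P) a (by rw [hcP])
  have hqo : orderOf (q : S) = a := by rw [Subgroup.orderOf_coe, hq]
  have hPz : (P : Subgroup S) = zpowers (q : S) := by
    symm
    apply Subgroup.eq_of_le_of_card_ge (zpowers_le.2 q.2)
    rw [Nat.card_zpowers, hqo]
    exact hcP.le
  let C : Subgroup S := centralizer (P : Set S)
  have hPC : (P : Subgroup S) ≤ C := fun x hx => mem_centralizer_iff.2 fun y hy => hPcomm y hy x hx
  have hCp : IsPGroup a C := by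
    rw [IsPGroup.iff_orderOf]
    intro c
    have h1 : ∀ r : ℕ, r.Prime → r ∣ orderOf c → r = a := by
      intro r hr hrc
      by_contra hne
      have h2 : Commute (q : S) (c : S) := (mem_centralizer_iff.1 c.2 _ q.2)
      obtain ⟨y, hy⟩ := exists_mul_order h2 ha hr (fun h => hne h.symm) (by rw [hqo])
        (by rw [Subgroup.orderOf_coe]; exact hrc)
      exact hiso r hr hne y hy
    exact ⟨_, Nat.eq_prime_pow_of_unique_prime_dvd (orderOf_pos c).ne' fun {d} hd hd' => h1 d hd hd'⟩
  have hcC : Nat.card C = a := by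
    obtain ⟨k, hk⟩ := IsPGroup.iff_card.1 hCp
    have h1 : a ∣ Nat.card C := by
      rw [← hcP]
      exact Subgroup.card_dvd_of_le hPC
    have h2 : Nat.card C ∣ a * m := hm ▸ Subgroup.card_subgroup_dvd_card C
    have h3 : ¬ a ^ 2 ∣ a * m := by
      rw [pow_two]
      intro h
      exact ham (Nat.dvd_of_mul_dvd_mul_left ha.pos h)
    have hk1 : k ≤ 1 := by
      by_contra h
      apply h3
      refine (pow_dvd_pow a (by omega : 2 ≤ k)).trans ?_
      rw [← hk]
      exact h2
    have hk0 : k ≠ 0 := by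
      rintro rfl
      rw [hk, pow_zero] at h1
      exact ha.one_lt.ne' (Nat.dvd_one.1 h1)
    have : k = 1 := by omega
    rw [hk, this, pow_one]
  let N : Subgroup S := normalizer (P : Set S)
  have hCN : C ≤ N := by
    intro c hc
    change c ∈ normalizer ((P : Subgroup S) : Set S)
    rw [mem_normalizer_iff]
    have h1 : ∀ c ∈ C, ∀ y ∈ (P : Subgroup S), c * y * c⁻¹ = y := by
      intro c hc y hy
      rw [← mem_centralizer_iff.1 hc y hy, mul_inv_cancel_right]
    intro y
    refine ⟨fun hy => by rw [h1 c hc y hy]; exact hy, fun hy => ?_⟩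
    have h2 := h1 c⁻¹ (C.inv_mem hc) _ hy
    have h3 : c⁻¹ * (c * y * c⁻¹) * c⁻¹⁻¹ = y := by group
    rw [h3] at h2
    rw [h2]
    exact hy
  have key : C.relIndex N ∣ a - 1 := by
    have key := card_dvd_of_injective _ (QuotientGroup.kerLift_injective (P : Subgroup S).normalizerMonoidHom)
    rw [normalizerMonoidHom_ker, ← index, ← relIndex, hcyc.card_mulAut, hcP, Nat.totient_prime ha] at key
    exact key
  refine ⟨C.relIndex N, key, ?_, ?_⟩
  · have h1 : Nat.card N = a * C.relIndex N := by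
      have h3 := Subgroup.relIndex_mul_relIndex ⊥ C N bot_le hCN
      rw [Subgroup.relIndex_bot_left, Subgroup.relIndex_bot_left, hcC] at h3
      exact h3.symm
    have h2 : Nat.card N * Nat.card (Sylow a S) = a * m := by
      rw [Sylow.card_eq_index_normalizer P, Subgroup.card_mul_index, hm]
    rw [h1, mul_assoc] at h2
    have h3 : C.relIndex N * Nat.card (Sylow a S) = m := Nat.eq_of_mul_eq_mul_left ha.pos h2
    have h4 := (Nat.ModEq.refl (n := a) (C.relIndex N)).mul (card_sylow_modEq_one a S)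
    rw [h3, mul_one] at h4
    exact h4
  · intro b hb hbw
    have hfb : Fact b.Prime := ⟨hb⟩
    have hba : b ≠ a := by
      rintro rfl
      have h1 := Nat.le_of_dvd (Nat.sub_pos_of_lt hb.one_lt) (hbw.trans key)
      have := hb.pos
      omega
    obtain ⟨z, hz⟩ := exists_prime_orderOf_dvd_card' (G := N) b (hbw.trans (Subgroup.relIndex_dvd_card C N))
    refine ⟨q, z, hqo, by rw [Subgroup.orderOf_coe, hz], ?_, ?_⟩
    · rw [← hPz]
      exact (mem_normalizer_iff.1 z.2 _).1 q.2
    · intro h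
      have h1 : Commute (q : S) (z : S) := h.symm
      obtain ⟨y, hy⟩ := exists_mul_order h1 ha hb hba.symm (by rw [hqo]) (by rw [Subgroup.orderOf_coe, hz])
      exact hiso b hb hba y hy

/-- an isolated prime divides `|X|` only if it divides `|S|` -/
theorem outer_isolated {X : Type*} [Group X] [Finite X] (S : Subgroup X) [S.Normal] (hS : IsSimpleGroup S)
    (hna : ¬ IsMulCommutative S) {r : ℕ} (hr : r.Prime) (hrS : ¬ r ∣ Nat.card S)
    (hno : ∀ p : ℕ, p.Prime → p ∣ Nat.card S → ∀ g : X, orderOf g ≠ p * r) : ¬ r ∣ Nat.card X := by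
  classical
  intro hrX
  have hfr : Fact r.Prime := ⟨hr⟩
  obtain ⟨x, hx⟩ := exists_prime_orderOf_dvd_card' (G := X) r hrX
  let φ : MulAut S := MulAut.conjNormal x
  have hφ : ∀ s : S, φ s = s → s = 1 := by
    intro s hs
    by_contra hs1
    have h1 : (s : X) * x = x * s := by
      have := congrArg Subtype.val hs
      rw [MulAut.conjNormal_apply] at this
      exact (mul_inv_eq_iff_eq_mul.1 this).symm
    have h2 : orderOf (s : X) ≠ 1 := fun h => hs1 (Subtype.ext (orderOf_eq_one_iff.1 h))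
    obtain ⟨p, hp, hpd⟩ := Nat.exists_prime_and_dvd h2
    have hpS : p ∣ Nat.card S := by
      rw [Subgroup.orderOf_coe] at hpd
      exact hpd.trans (orderOf_dvd_natCard s)
    have hpr : p ≠ r := by
      rintro rfl
      exact hrS hpS
    obtain ⟨y, hy⟩ := exists_mul_order (x := (s : X)) h1 hp hr hpr hpd (by rw [hx])
    exact hno p hp hpS y hy
  have hord : orderOf φ = r := by
    apply orderOf_eq_prime
    · change (MulAut.conjNormal x : MulAut S) ^ r = 1
      rw [← map_pow, ← hx, pow_orderOf_eq_one, map_one]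
    · intro h
      obtain ⟨s, hs⟩ := exists_ne (1 : S)
      apply hs
      apply hφ
      rw [h]
      rfl
  have hnil := Cfsg.Agent.S0033.result (G := S) φ hφ r hr hord
  have hsol : Group.IsSolvable S := inferInstance
  exact hna (isMulCommutative_iff.2 (IsSimpleGroup.comm_iff_isSolvable.2 hsol))

/-- a prime `t` dividing `|X|` but not `|S|` with `|Q| ≢ 1 (mod t)`, `Q` a Sylow `a`-subgroup of `S`, is adjacent
to `a` -/
theorem exists_mul_of_card {X : Type*} [Group X] [Finite X] (S : Subgroup X) [S.Normal] {a t : ℕ} (ha : a.Prime)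
    (ht : t.Prime) (htS : ¬ t ∣ Nat.card S) (htX : t ∣ Nat.card X)
    (hQ : ¬ a ^ (Nat.card S).factorization a ≡ 1 [MOD t]) (hat : a ≠ t) : ∃ g : X, orderOf g = a * t := by
  classical
  have hft : Fact t.Prime := ⟨ht⟩
  have hfa : Fact a.Prime := ⟨ha⟩
  obtain ⟨x, hx⟩ := exists_prime_orderOf_dvd_card' (G := X) t htX
  have hpg : IsPGroup t (zpowers x) := IsPGroup.of_card (n := 1) (by rw [Nat.card_zpowers, hx, pow_one])
  let c : zpowers x →* MulAut S := (MulAut.conjNormal (H := S)).comp (zpowers x).subtype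
  let act : MulAction (zpowers x) (Sylow a S) := MulAction.compHom (Sylow a S) c
  have hnd : ¬ t ∣ Nat.card (Sylow a S) := by
    intro h
    apply htS
    obtain ⟨P⟩ : Nonempty (Sylow a S) := inferInstance
    exact (h.trans P.card_dvd_index).trans (Subgroup.index_dvd_card _)
  obtain ⟨Q, hQf⟩ := hpg.nonempty_fixed_point_of_prime_not_dvd_card (Sylow a S) hnd
  have hmem : ∀ (g : zpowers x) (s : S), s ∈ Q → c g s ∈ Q := by
    intro g s hs
    have h1 : c g • Q = Q := hQf g
    have h2 : c g s ∈ c g • (Q : Subgroup S) := Subgroup.smul_mem_pointwise_smul s (c g) _ hs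
    have h3 : ((c g • Q : Sylow a S) : Subgroup S) = c g • (Q : Subgroup S) := rfl
    rw [← h3, h1] at h2
    exact h2
  let act2 : MulAction (zpowers x) Q :=
    { smul := fun g s => ⟨c g s, hmem g s s.2⟩
      one_smul := fun s => Subtype.ext (by
        change c 1 (s : S) = s
        rw [map_one]; rfl)
      mul_smul := fun g h s => Subtype.ext (by
        change c (g * h) (s : S) = c g (c h s)
        rw [map_mul]; rfl) }
  have h1 := hpg.card_modEq_card_fixedPoints Q
  have hcQ : Nat.card Q = a ^ (Nat.card S).factorization a := Q.card_eq_multiplicity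
  rw [hcQ] at h1
  have h2 : ∃ s : Q, s ∈ MulAction.fixedPoints (zpowers x) Q ∧ s ≠ 1 := by
    by_contra hcon
    push Not at hcon
    apply hQ
    have h3 : Nat.card (MulAction.fixedPoints (zpowers x) Q) = 1 := by
      rw [Nat.card_eq_one_iff_unique]
      refine ⟨⟨fun s s' => Subtype.ext ?_⟩, ⟨⟨1, fun g => Subtype.ext ?_⟩⟩⟩
      · rw [hcon s s.2, hcon s' s'.2]
      · change c g (1 : S) = 1
        rw [map_one]
    rwa [h3] at h1
  obtain ⟨s, hs, hs1⟩ := h2
  have h3 : Commute ((s : S) : X) x := by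
    have h4 := congrArg (fun u : Q => ((u : S) : X)) (hs ⟨x, mem_zpowers x⟩)
    have h5 : x * ((s : S) : X) * x⁻¹ = ((s : S) : X) := h4
    exact (mul_inv_eq_iff_eq_mul.1 h5).symm
  have h4 : a ∣ orderOf ((s : S) : X) := by
    obtain ⟨k, hk⟩ := (IsPGroup.iff_orderOf.1 Q.isPGroup') s
    have h5 : orderOf ((s : S) : X) = a ^ k := by
      rw [Subgroup.orderOf_coe, ← hk]
      exact Subgroup.orderOf_coe s
    rcases Nat.eq_zero_or_pos k with rfl | hk0
    · rw [pow_zero] at hk
      exact absurd (orderOf_eq_one_iff.1 hk) hs1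
    · rw [h5]; exact dvd_pow_self a hk0.ne'
  exact exists_mul_order h3 ha ht hat h4 (by rw [hx])

/-- the normalizer of a Sylow subgroup of `K` -/
theorem exists_center {G : Type*} [Group G] [Finite G] (K : Subgroup G) [K.Normal] {t : ℕ} (ht : t.Prime)
    (htK : t ∣ Nat.card K) (P : Sylow t K) :
    let PG : Subgroup G := (P : Subgroup K).map K.subtype
    let N : Subgroup G := normalizer (PG : Set G)
    let ZP : Subgroup G := (center PG).map PG.subtype
    N ⊔ K = ⊤ ∧ ZP ≠ ⊥ ∧ IsMulCommutative ZP ∧ N ≤ normalizer (ZP : Set G) ∧ ∀ v ∈ ZP, v ≠ 1 → t ∣ orderOf v := by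
  classical
  have hft : Fact t.Prime := ⟨ht⟩
  intro PG N ZP
  have hPG : IsPGroup t PG := P.isPGroup'.map K.subtype
  have hPGne : Nontrivial PG := by
    rw [Subgroup.nontrivial_iff_ne_bot]
    intro h
    have h1 : Nat.card P = 1 := by
      have h2 : Nat.card PG = Nat.card P := Subgroup.card_map_of_injective K.subtype_injective
      rw [← h2, h, Subgroup.card_bot]
    rw [Sylow.card_eq_multiplicity] at h1
    have h2 : 0 < (Nat.card K).factorization t :=
      ht.factorization_pos_of_dvd Nat.card_pos.ne' htK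
    have h3 := Nat.one_lt_pow h2.ne' ht.one_lt
    omega
  have hcen : Nontrivial (center PG) := hPG.center_nontrivial
  refine ⟨Sylow.normalizer_sup_eq_top P, ?_, ?_, ?_, ?_⟩
  · intro h
    rw [Subgroup.map_eq_bot_iff_of_injective _ PG.subtype_injective] at h
    exact (Subgroup.nontrivial_iff_ne_bot _).1 hcen h
  · rw [isMulCommutative_iff]
    rintro ⟨_, u, hu, rfl⟩ ⟨_, v, hv, rfl⟩
    apply Subtype.ext
    have := Subgroup.mem_center_iff.1 hu v
    exact (congrArg Subtype.val this).symm
  · intro n hn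
    have h1 : ∀ n ∈ N, ∀ y ∈ ZP, n * y * n⁻¹ ∈ ZP := by
      rintro n hn _ ⟨u, hu, rfl⟩
      have h2 : n * (u : G) * n⁻¹ ∈ PG := ((mem_normalizer_iff.1 hn) _).1 u.2
      refine ⟨⟨_, h2⟩, ?_, rfl⟩
      rw [SetLike.mem_coe, Subgroup.mem_center_iff]
      intro v
      apply Subtype.ext
      change (v : G) * (n * u * n⁻¹) = n * u * n⁻¹ * v
      have h3 : n⁻¹ * (v : G) * n ∈ PG := by
        have := ((mem_normalizer_iff.1 (N.inv_mem hn)) (v : G)).1 v.2
        rwa [inv_inv] at this
      have h4 := congrArg Subtype.val (Subgroup.mem_center_iff.1 hu ⟨_, h3⟩)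
      have h5 : n⁻¹ * (v : G) * n * u = u * (n⁻¹ * v * n) := h4
      have h6 : (v : G) * (n * u * n⁻¹) = n * (n⁻¹ * v * n * u) * n⁻¹ := by group
      rw [h6, h5]
      group
    rw [mem_normalizer_iff]
    intro y
    refine ⟨h1 n hn y, fun hy => ?_⟩
    have := h1 n⁻¹ (N.inv_mem hn) _ hy
    have h2 : n⁻¹ * (n * y * n⁻¹) * n⁻¹⁻¹ = y := by group
    rwa [h2] at this
  · rintro _ ⟨u, hu, rfl⟩ hv1
    obtain ⟨k, hk⟩ := (IsPGroup.iff_orderOf.1 hPG) u
    have h2 : orderOf (PG.subtype u) = t ^ k := by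
      rw [← hk]; exact Subgroup.orderOf_coe u
    rcases Nat.eq_zero_or_pos k with rfl | hk0
    · rw [pow_zero] at h2
      exact absurd (orderOf_eq_one_iff.1 h2) hv1
    · rw [h2]; exact dvd_pow_self t hk0.ne'

open Cfsg.Agent.H348 Cfsg.Agent.H559.FC in
/-- **An isolated prime dividing `|K|` but not `|G ⧸ K|`.** -/
theorem card_dvd_of_isolated {G : Type} [Group G] [Finite G] (K : Subgroup G) [K.Normal] {a : ℕ} (ha : a.Prime)
    (haK : a ∣ Nat.card K) (haX : ¬ a ∣ Nat.card (G ⧸ K))
    (hiso : ∀ r : ℕ, r.Prime → r ≠ a → ∀ g : G, orderOf g ≠ a * r)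
    (S : Subgroup (G ⧸ K)) [S.Normal] (hS : IsSimpleGroup S) (hna : ¬ IsMulCommutative S) :
    Nat.card S ∣ 120 := by
  classical
  have hfa : Fact a.Prime := ⟨ha⟩
  obtain ⟨P⟩ : Nonempty (Sylow a K) := inferInstance
  obtain ⟨hfr, hZne, hZc, hZn, hZo⟩ := exists_center K ha haK P
  set PG : Subgroup G := (P : Subgroup K).map K.subtype with hPGdef
  set N : Subgroup G := normalizer (PG : Set G) with hNdef
  set ZP : Subgroup G := (center PG).map PG.subtype with hZPdef
  let φ : N →* G ⧸ K := (QuotientGroup.mk' K).comp N.subtype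
  have hφ : Function.Surjective φ := by
    intro y
    obtain ⟨g, rfl⟩ := QuotientGroup.mk'_surjective K y
    have hg : g ∈ N ⊔ K := by rw [hfr]; exact mem_top g
    obtain ⟨n, hn, k, hk, rfl⟩ := Subgroup.mem_sup_of_normal_right.1 hg
    refine ⟨⟨n, hn⟩, ?_⟩
    change QuotientGroup.mk' K n = QuotientGroup.mk' K (n * k)
    rw [map_mul]
    have : QuotientGroup.mk' K k = 1 := (QuotientGroup.eq_one_iff k).2 hk
    rw [this, mul_one]
  -- the complement
  have hPGK : PG ≤ K := by
    rintro _ ⟨k, -, rfl⟩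
    exact k.2
  have hPGN : PG ≤ N := le_normalizer
  let PN : Subgroup N := PG.subgroupOf N
  have hPNn : PN.Normal := normal_in_normalizer
  have hPN : Nat.card PN = Nat.card P := by
    have h1 : Nat.card PN = Nat.card PG := Nat.card_congr (Subgroup.subgroupOfEquivOfLe hPGN).toEquiv
    have h2 : Nat.card PG = Nat.card P := Subgroup.card_map_of_injective K.subtype_injective
    rw [h1, h2]
  have hidx : ¬ a ∣ PN.index := by
    intro h
    have h1 : PN.index ∣ PG.index := Subgroup.relIndex_dvd_index_of_le hPGN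
    have h2 : PG.index = (P : Subgroup K).index * K.index := Subgroup.index_map_subtype _
    have h3 := h.trans h1
    rw [h2] at h3
    rcases ha.dvd_mul.1 h3 with h4 | h4
    · exact P.not_dvd_index h4
    · exact haX (by rwa [← Subgroup.index_eq_card])
  have hcop : Nat.Coprime (Nat.card PN) PN.index := by
    rw [hPN, Sylow.card_eq_multiplicity]
    exact Nat.Coprime.pow_left _ ((Nat.Prime.coprime_iff_not_dvd ha).2 hidx)
  obtain ⟨H, hH⟩ := Subgroup.exists_right_complement'_of_coprime hcop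
  have hHcard : Nat.card H = PN.index := (hH.symm.index_eq_card).symm
  let HG : Subgroup G := H.map N.subtype
  have hHGN : HG ≤ N := by
    rintro _ ⟨n, -, rfl⟩
    exact n.2
  have hHGcard : Nat.card HG = PN.index := by
    rw [← hHcard]
    exact Subgroup.card_map_of_injective N.subtype_injective
  have hfpf : ∀ g ∈ HG, g ≠ 1 → ZP ⊓ centralizer {g} = ⊥ := by
    intro g hg hg1
    rw [eq_bot_iff]
    rintro v ⟨hv, hv'⟩
    rw [Subgroup.mem_bot]
    by_contra hv1
    have h1 : Commute v g := Subgroup.mem_centralizer_singleton_iff.1 hv'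
    have hgo : orderOf g ∣ PN.index := by
      rw [← hHGcard, ← Subgroup.orderOf_mk g hg]
      exact orderOf_dvd_natCard _
    obtain ⟨p, hp, hpg⟩ := Nat.exists_prime_and_dvd (fun h => hg1 (orderOf_eq_one_iff.1 h) : orderOf g ≠ 1)
    have hpa : p ≠ a := by
      rintro rfl
      exact hidx (hpg.trans hgo)
    obtain ⟨y, hy⟩ := exists_mul_order h1 ha hp hpa.symm (hZo v hv hv1) hpg
    exact hiso p hp hpa y hy
  have hZnt : Nontrivial ZP := (Subgroup.nontrivial_iff_ne_bot ZP).2 hZne
  have hF : HasFPF HG := by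
    let _ : CommGroup ZP := { (inferInstance : Group ZP) with mul_comm := isMulCommutative_iff.1 hZc }
    exact ⟨ZP, inferInstance, inferInstance, inferInstance,
      Cfsg.Agent.Solvable.FixedPointFree.conjHom HG ZP (hHGN.trans hZn),
      Cfsg.Agent.Solvable.FixedPointFree.conjHom_fpf HG ZP (hHGN.trans hZn) hfpf⟩
  -- the surjection
  let ψ : HG →* G ⧸ K := (QuotientGroup.mk' K).comp HG.subtype
  have hψ : Function.Surjective ψ := by
    intro y
    obtain ⟨n, rfl⟩ := hφ y
    obtain ⟨⟨p, h⟩, hph⟩ := hH.2 n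
    have h1 : (p : N) * (h : N) = n := hph
    refine ⟨⟨_, ((h : N) : N), h.2, rfl⟩, ?_⟩
    change QuotientGroup.mk' K ((h : N) : G) = QuotientGroup.mk' K (n : G)
    rw [← h1, Subgroup.coe_mul, map_mul]
    have : QuotientGroup.mk' K ((p : N) : G) = 1 := (QuotientGroup.eq_one_iff _).2 (hPGK p.2)
    rw [this, one_mul]
  have hSns : ¬ Group.IsSolvable S := fun h => hna (isMulCommutative_iff.2 (IsSimpleGroup.comm_iff_isSolvable.2 h))
  have hns : ¬ Group.IsSolvable HG := by
    intro h
    have h1 : Group.IsSolvable (G ⧸ K) := Group.isSolvable_of_surjective hψ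
    exact hSns inferInstance
  obtain ⟨N0, hN0, hN0Z, hN0T⟩ := exists_of_not_solvable hns hF
  have hi : N0.index ∣ 120 := by
    rcases hN0T with rfl | ⟨f, hf, rfl⟩ | ⟨f, hf, rfl⟩ | ⟨f, hf, rfl⟩ | ⟨f, hf, rfl⟩ | ⟨f, hf, rfl⟩
    · rw [Subgroup.index_top]; norm_num
    · rw [index_ker f hf, Nat.card_eq_fintype_card, DihedralGroup.card]; norm_num
    · rw [index_ker f hf, nat_card_alternatingGroup]; simp [Nat.factorial]
    · rw [index_ker f hf, Nat.card_perm]; simp [Nat.factorial]
    · rw [index_ker f hf, nat_card_alternatingGroup]; simp [Nat.factorial]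
    · rw [index_ker f hf, Nat.card_perm]; simp [Nat.factorial]
  let M : Subgroup (G ⧸ K) := N0.map ψ
  have hMn : M.Normal := Subgroup.Normal.map hN0 ψ hψ
  have hMs : Group.IsSolvable M := Group.isSolvable_of_surjective (ψ.subgroupMap_surjective N0)
  have hMi : M.index ∣ 120 := (Subgroup.index_map_dvd N0 hψ).trans hi
  have hinf : M.subgroupOf S = ⊥ := by
    rcases hS.eq_bot_or_eq_top_of_normal (M.subgroupOf S) inferInstance with h | h
    · exact h
    · exfalso
      rw [Subgroup.subgroupOf_eq_top] at h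
      exact hSns (Group.isSolvable_of_isSolvable_injective (Subgroup.inclusion_injective h))
  have h1 : M.relIndex S = Nat.card S := by
    rw [Subgroup.relIndex, hinf, Subgroup.index_bot]
  rw [← h1]
  exact (Subgroup.relIndex_dvd_index_of_normal M S).trans hMi

end Cfsg.Agent.H421.Act
end
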